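import Mathlib
import Cfsg.Agent.S2553
import Cfsg.Agent.Lib.PSolvable.Core
import Cfsg.Agent.Lib.MinimalNormal

/-!
Non-solvable subgroups of `A₈` without normal 2-subgroup.
-/

set_option autoImplicit false

namespace Cfsg.Agent.Lib.H59.SectFour

open Equiv Subgroup Cfsg.Agent.Lib.ASevenGL Cfsg.Agent.Lib.SmallGroups

/-- A group with a solvable normal subgroup of small index. -/
theorem isSolvable_of_card_quotient {G : Type*} [Group G] [Finite G] (M : Subgroup G) [M.Normal]
    [Group.IsSolvable M] (h : Nat.card (G ⧸ M) ∣ 20160) (h5 : ¬ 5 ∣ Nat.card (G ⧸ M))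
    (h7 : ¬ 7 ∣ Nat.card (G ⧸ M)) : Group.IsSolvable G := by
  haveI := solvable_of_dvd h h5 h7
  exact Group.isSolvable_of_ker_le_range M.subtype (QuotientGroup.mk' M)
    (by rw [QuotientGroup.ker_mk', Subgroup.range_subtype])

/-- Non-solvable subgroups of `S₅`. -/
theorem range_five {K : Type*} [Group K] [Finite K] (r : K →* Perm (Fin 5))
    (h : ¬ Group.IsSolvable r.range) :
    r.range = alternatingGroup (Fin 5) ∨ r.range = ⊤ := by
  classical
  let H : Subgroup (alternatingGroup (Fin 5)) := r.range.subgroupOf (alternatingGroup (Fin 5))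
  haveI : IsSimpleGroup (alternatingGroup (Fin 5)) := alternatingGroup.isSimpleGroup (by simp)
  have hA : Nat.card (alternatingGroup (Fin 5)) = 60 := by
    rw [nat_card_alternatingGroup, Nat.card_fin]; norm_num [Nat.factorial]
  by_cases hH : H = ⊤
  · have hle : alternatingGroup (Fin 5) ≤ r.range := Subgroup.subgroupOf_eq_top.1 hH
    have hi := Subgroup.index_dvd_of_le hle
    rw [alternatingGroup.index_eq_two] at hi
    rcases (Nat.dvd_prime Nat.prime_two).1 hi with hi | hi
    · exact Or.inr (Subgroup.index_eq_one.1 hi)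
    · exact Or.inl (Perm.eq_alternatingGroup_of_index_eq_two hi)
  · exfalso
    have hG : ¬ IsMulCommutative (alternatingGroup (Fin 5)) :=
      not_isMulCommutative_of_not_prime (by rw [hA]; norm_num)
    have hi : 5 ≤ H.index := by
      by_contra hlt
      refine hH (eq_top_of_not_dvd_factorial hG fun hd => ?_)
      rw [hA] at hd
      have := hd.trans (Nat.factorial_dvd_factorial (show H.index ≤ 4 by omega))
      norm_num [Nat.factorial] at this
    have hm := H.card_mul_index
    rw [hA] at hm
    have h12 : Nat.card H ≤ 12 := by nlinarith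
    have hd : Nat.card H ∣ 60 := hA ▸ H.card_subgroup_dvd_card
    haveI : Group.IsSolvable H := by
      by_cases h5 : 5 ∣ Nat.card H
      · have hpos := Nat.card_pos (α := H)
        have hc : Nat.card H = 5 ∨ Nat.card H = 10 := by omega
        rcases hc with hc | hc
        · exact Burnside.isSolvable_of_card_eq_prime_pow_mul Nat.prime_five Nat.prime_two (a := 1) (b := 0) (by rw [hc]; rfl)
        · exact Burnside.isSolvable_of_card_eq_prime_pow_mul Nat.prime_five Nat.prime_two (a := 1) (b := 1) (by rw [hc]; rfl)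
      · refine solvable_of_dvd (hd.trans (by norm_num)) h5 fun h7 => ?_
        have := h7.trans hd
        norm_num at this
    let i : H →* r.range := (((alternatingGroup (Fin 5)).subtype).comp H.subtype).codRestrict r.range fun x => x.2
    refine h (Group.isSolvable_of_ker_le_range i ((Perm.sign).comp r.range.subtype) ?_)
    intro g hg
    exact ⟨⟨⟨g.1, Perm.mem_alternatingGroup.2 hg⟩, g.2⟩, rfl⟩

/-- A normal 3-subgroup of a non-solvable subgroup of `S₅` is trivial. -/
theorem three_subgroup_five {K : Type*} [Group K] [Finite K] (r : K →* Perm (Fin 5))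
    (h : r.range = alternatingGroup (Fin 5) ∨ r.range = ⊤) (L : Subgroup K) [L.Normal]
    (hL : IsPGroup 3 L) : L ≤ r.ker := by
  classical
  haveI : IsSimpleGroup (alternatingGroup (Fin 5)) := alternatingGroup.isSimpleGroup (by simp)
  haveI : Fact (Nat.Prime 3) := ⟨Nat.prime_three⟩
  have hsign : L.map r ≤ alternatingGroup (Fin 5) := by
    rintro _ ⟨g, hg, rfl⟩
    obtain ⟨k, hk⟩ := hL ⟨g, hg⟩
    have hk' : g ^ 3 ^ k = 1 := congrArg Subtype.val hk
    rw [Perm.mem_alternatingGroup]
    have h1 : Perm.sign (r g) ^ 3 ^ k = 1 := by rw [← map_pow, ← map_pow, hk', map_one, map_one]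
    rcases Int.units_eq_one_or (Perm.sign (r g)) with h2 | h2
    · exact h2
    · rw [h2, Odd.neg_one_pow (Odd.pow (by decide : Odd 3))] at h1
      exact h1.symm ▸ h2
  let N : Subgroup (alternatingGroup (Fin 5)) := (L.map r).subgroupOf (alternatingGroup (Fin 5))
  have hN : N.Normal := by
    constructor
    intro n hn a
    have ha : (a : Perm (Fin 5)) ∈ r.range := by
      rcases h with h | h
      · rw [h]; exact a.2
      · rw [h]; exact mem_top _
    obtain ⟨y, hy⟩ := ha
    obtain ⟨g, hg, hgn⟩ := hn
    exact ⟨y * g * y⁻¹, Subgroup.Normal.conj_mem inferInstance g hg y, by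
      simp only [map_mul, map_inv, hy, hgn, Subgroup.coe_subtype, Subgroup.coe_mul, Subgroup.coe_inv]⟩
  have hcard : Nat.card N = Nat.card (L.map r) :=
    Nat.card_congr (Subgroup.subgroupOfEquivOfLe hsign).toEquiv
  rcases hN.eq_bot_or_eq_top with h1 | h1
  · rw [h1, Subgroup.card_bot] at hcard
    intro g hg
    have h2 : L.map r = ⊥ := Subgroup.eq_bot_of_card_eq _ hcard.symm
    exact Subgroup.mem_bot.1 (h2 ▸ Subgroup.mem_map_of_mem r hg : r g ∈ (⊥ : Subgroup (Perm (Fin 5))))
  · exfalso
    obtain ⟨k, hk⟩ := IsPGroup.iff_card.1 (hL.map r)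
    rw [h1, Subgroup.card_top, nat_card_alternatingGroup, Nat.card_fin, hk] at hcard
    norm_num [Nat.factorial] at hcard
    have h5 : 5 ∣ 3 ^ k := ⟨12, by omega⟩
    have := Nat.prime_five.dvd_of_dvd_pow h5
    norm_num at this

variable {K : Subgroup AEight}

/-- A normal subgroup of order 5 or 7 forces solvability. -/
theorem not_five_seven (hns : ¬ Group.IsSolvable K) (M : Subgroup K) [M.Normal] {q : ℕ}
    (hq : q = 5 ∨ q = 7) (hM : Nat.card M = q) : False := by
  haveI : Fact q.Prime := ⟨by rcases hq with rfl | rfl <;> norm_num⟩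
  let N : Subgroup AEight := M.map K.subtype
  have hN : Nat.card N = q := by rw [card_map_of_injective K.subtype_injective, hM]
  have hKN : K ≤ normalizer (N : Set AEight) := by
    have h := Subgroup.le_normalizer_map (H := M) K.subtype
    rwa [Subgroup.normalizer_eq_top, ← MonoidHom.range_eq_map, Subgroup.range_subtype] at h
  have hd : Nat.card K ∣ q * (if q = 5 then 24 else 3) := by
    refine (card_dvd_of_le hKN).trans ?_
    rcases hq with rfl | rfl
    · obtain ⟨e, he, hcard⟩ := exists_card_normalizer_eq hN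
      rw [hcard, if_pos rfl]
      exact (Nat.mul_dvd_mul he (card_centralizer_dvd (by norm_num) hN)).trans (by norm_num [Nat.factorial])
    · rw [card_normalizer_seven hN]
      norm_num
  have hc := M.card_eq_card_quotient_mul_card_subgroup
  rw [hM] at hc
  rw [hc, mul_comm q] at hd
  have hd' := Nat.dvd_of_mul_dvd_mul_right (by rcases hq with rfl | rfl <;> norm_num) hd
  haveI : Group.IsSolvable M := by
    haveI := isCyclic_of_prime_card hM
    exact Group.isSolvable_of_comm fun a b => mul_comm' a b
  refine hns (isSolvable_of_card_quotient M (hd'.trans ?_) (fun h => ?_) (fun h => ?_))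
  · split_ifs <;> norm_num
  · have := h.trans hd'
    split_ifs at this <;> norm_num at this
  · have := h.trans hd'
    split_ifs at this <;> norm_num at this

/-- An element of prime order 5 or 7 centralises a normal elementary 3-subgroup. -/
theorem centralises_three (M : Subgroup K) [M.Normal] (hM : Nat.card M = 3 ∨ Nat.card M = 9)
    {p : ℕ} [hp : Fact p.Prime] (hp57 : p = 5 ∨ p = 7) {y : K} (hy : orderOf y = p) :
    ∀ m ∈ M, y * m = m * y := by
  classical
  letI : MulAction (zpowers y) M :=
    MulAction.compHom M ((MulAut.conjNormal (H := M)).comp (zpowers y).subtype)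
  have hP : IsPGroup p (zpowers y) := IsPGroup.of_card (n := 1) (by rw [Nat.card_zpowers, hy, pow_one])
  have hmod := hP.card_modEq_card_fixedPoints M
  let C : Subgroup M := (centralizer ({y} : Set K)).subgroupOf M
  have hfix : ∀ m : M, m ∈ MulAction.fixedPoints (zpowers y) M ↔ m ∈ C := by
    intro m
    rw [MulAction.mem_fixedPoints]
    show _ ↔ m.1 ∈ centralizer ({y} : Set K)
    rw [mem_centralizer_singleton_iff]
    constructor
    · intro h
      have h1 := congrArg Subtype.val (h ⟨y, mem_zpowers y⟩)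
      change ((MulAut.conjNormal y m : M) : K) = m.1 at h1
      rw [MulAut.conjNormal_apply] at h1
      exact (mul_inv_eq_iff_eq_mul.1 h1).symm
    · intro h g
      obtain ⟨j, hj⟩ := mem_zpowers_iff.1 g.2
      refine Subtype.ext ?_
      show ((MulAut.conjNormal g.1 m : M) : K) = m.1
      rw [MulAut.conjNormal_apply, ← hj, mul_inv_eq_iff_eq_mul]
      exact (Commute.zpow_left (show Commute y m.1 from h.symm) j).eq
  have hC : Nat.card (MulAction.fixedPoints (zpowers y) M) = Nat.card C :=
    Nat.card_congr (Equiv.subtypeEquivRight hfix)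
  rw [hC] at hmod
  have hd := C.card_subgroup_dvd_card
  have htop : C = ⊤ := by
    refine Subgroup.eq_top_of_card_eq C ?_
    have hle := Nat.le_of_dvd (by omega) hd
    have h0 := Nat.card_pos (α := C)
    unfold Nat.ModEq at hmod
    rcases hM with hM | hM <;> rw [hM] at hmod hd hle ⊢ <;> rcases hp57 with rfl | rfl <;>
      interval_cases (Nat.card C) <;> omega
  intro m hm
  have h : (⟨m, hm⟩ : M) ∈ C := htop ▸ mem_top _
  have h' : m ∈ centralizer ({y} : Set K) := h
  exact (mem_centralizer_singleton_iff.1 h').symm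

/-- A normal subgroup of order 3 centralising an element of order 5: the quotient lives on five letters. -/
theorem three_case (hns : ¬ Group.IsSolvable K) (M : Subgroup K) [M.Normal] (hM : Nat.card M = 3)
    {y : K} (hy : orderOf y = 5) (hc : ∀ m ∈ M, y * m = m * y) :
    Nat.card (pCore 3 K) = 3 ∧ (Nonempty (K ⧸ pCore 3 K ≃* alternatingGroup (Fin 5)) ∨
      Nonempty (K ⧸ pCore 3 K ≃* Perm (Fin 5))) := by
  classical
  haveI : Fact (Nat.Prime 3) := ⟨Nat.prime_three⟩
  haveI : Fact (Nat.Prime 5) := ⟨Nat.prime_five⟩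
  obtain ⟨m, hm⟩ := exists_prime_orderOf_dvd_card' (G := M) 3 (by rw [hM])
  have hMz : ∀ g ∈ M, g ∈ zpowers (m : K) := by
    intro g hg
    have h : zpowers (m : K) = M := Subgroup.eq_of_le_of_card_ge (zpowers_le.2 m.2)
      (by rw [Nat.card_zpowers, Subgroup.orderOf_coe, hm, hM])
    rw [h]; exact hg
  let x : Perm (Fin 8) := ((m : K) : AEight)
  have hx : orderOf x = 3 := by rw [Subgroup.orderOf_coe, Subgroup.orderOf_coe, Subgroup.orderOf_coe, hm]
  have hxy : (((y : K) : AEight) : Perm (Fin 8)) ∈ centralizer ({x} : Set (Perm (Fin 8))) :=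
    mem_centralizer_singleton_iff.2 (congrArg (fun t : K => ((t : AEight) : Perm (Fin 8))) (hc m m.2))
  have hsupp : x.support.card = 3 := by
    obtain ⟨n, hn⟩ := Perm.cycleType_prime_order (σ := x) (hx ▸ Nat.prime_three)
    rw [hx] at hn
    have hsum : x.cycleType.sum ≤ 8 := by
      rw [Perm.sum_cycleType]; simpa using Finset.card_le_univ x.support
    rw [hn, Multiset.sum_replicate, smul_eq_mul] at hsum
    have hn' : n = 0 ∨ n = 1 := by omega
    rcases hn' with rfl | rfl
    · rw [← Perm.sum_cycleType, hn]; rfl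
    · exfalso
      have hcard := Perm.nat_card_centralizer x
      rw [hn] at hcard
      have h5 := orderOf_dvd_natCard (⟨_, hxy⟩ : centralizer ({x} : Set (Perm (Fin 8))))
      rw [Subgroup.orderOf_mk, Subgroup.orderOf_coe, Subgroup.orderOf_coe, hy] at h5
      rw [hcard] at h5
      revert h5
      decide
  let p : Fin 8 → Prop := fun a => x a = a
  have hone : ∀ g ∈ K, ∀ a, x a = a → x ((g : Perm (Fin 8)) a) = (g : Perm (Fin 8)) a := by
    intro g hg a ha
    obtain ⟨j, hj⟩ := mem_zpowers_iff.1
      (hMz _ (Subgroup.Normal.conj_mem inferInstance (m : K) m.2 (⟨g, hg⟩ : K)⁻¹))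
    have h1 := congrArg (fun t : K => ((t : AEight) : Perm (Fin 8)) a) hj
    simp only [SubgroupClass.coe_zpow, Subgroup.coe_mul, Subgroup.coe_inv, inv_inv, Perm.mul_apply,
      Perm.coe_inv] at h1
    change (x ^ j) a = (g : Perm (Fin 8)).symm (x ((g : Perm (Fin 8)) a)) at h1
    rw [Perm.zpow_apply_eq_self_of_apply_eq_self ha, eq_comm, Equiv.symm_apply_eq] at h1
    exact h1
  have hinv : ∀ g ∈ K, ∀ a, p ((g : Perm (Fin 8)) a) ↔ p a := by
    intro g hg a
    refine ⟨fun h => ?_, hone g hg a⟩
    have h1 := hone g⁻¹ (K.inv_mem hg) _ h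
    simp only [Subgroup.coe_inv, Perm.coe_inv, Equiv.symm_apply_apply] at h1
    exact h1
  have hp5 : Nat.card {a // p a} = 5 := by
    rw [Nat.card_eq_fintype_card, Fintype.card_subtype]
    have h : Finset.univ.filter p = x.supportᶜ := by ext a; simp [p]
    rw [h, Finset.card_compl, hsupp, Fintype.card_fin]
  have hp3 : Nat.card {a // ¬ p a} = 3 := by
    rw [Nat.card_eq_fintype_card, Fintype.card_subtype_compl, ← Nat.card_eq_fintype_card (α := {a // p a}), hp5,
      Fintype.card_fin]
  let e : {a // p a} ≃ Fin 5 := Finite.equivFinOfCardEq hp5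
  let r : K →* Perm (Fin 5) := e.permCongrHom.toMonoidHom.comp (restrictHom K p hinv)
  have hrk : ∀ g : K, g ∈ r.ker ↔ ∀ a, p a → (g.1 : Perm (Fin 8)) a = a := by
    intro g
    show e.permCongrHom (restrictHom K p hinv g) = 1 ↔ _
    rw [map_eq_one_iff _ e.permCongrHom.injective]
    exact ⟨fun h a ha => congrArg Subtype.val (Perm.ext_iff.1 h ⟨a, ha⟩),
      fun h => Perm.ext fun a => Subtype.ext (h a.1 a.2)⟩
  have hMker : M ≤ r.ker := by
    intro g hg
    obtain ⟨j, hj⟩ := mem_zpowers_iff.1 (hMz g hg)
    rw [hrk]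
    intro a ha
    rw [← hj]
    simp only [SubgroupClass.coe_zpow]
    exact Perm.zpow_apply_eq_self_of_apply_eq_self ha j
  have hker3 : Nat.card r.ker ∣ 3 := by
    have hinv' : ∀ g ∈ K, ∀ a, ¬ p ((g : Perm (Fin 8)) a) ↔ ¬ p a := fun g hg a => not_congr (hinv g hg a)
    let s : r.ker →* Perm {a // ¬ p a} := (restrictHom K (fun a => ¬ p a) hinv').comp r.ker.subtype
    have hs : ∀ g, s g ∈ alternatingGroup {a // ¬ p a} := by
      intro g
      rw [Perm.mem_alternatingGroup]
      show Perm.sign ((g.1.1 : Perm (Fin 8)).subtypePerm (hinv' g.1.1 g.1.2)) = 1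
      refine Eq.trans ?_ (Perm.mem_alternatingGroup.1 g.1.1.2)
      convert Perm.sign_subtypePerm (g.1.1 : Perm (Fin 8)) (hinv' g.1.1 g.1.2)
        (fun a ha hpa => ha ((hrk g.1).1 g.2 a hpa))
    have hsi : Function.Injective (s.codRestrict _ hs) := by
      intro g g' h
      refine Subtype.ext (Subtype.ext (Subtype.ext (Perm.ext fun a => ?_)))
      by_cases ha : p a
      · rw [(hrk g.1).1 g.2 a ha, (hrk g'.1).1 g'.2 a ha]
      · exact congrArg Subtype.val (Perm.ext_iff.1 (congrArg Subtype.val h) ⟨a, ha⟩)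
    haveI : Nontrivial {a // ¬ p a} := Finite.one_lt_card_iff_nontrivial.1 (by omega)
    have h := Subgroup.card_dvd_of_injective _ hsi
    rwa [nat_card_alternatingGroup, hp3] at h
  have hker : r.ker = M := (Subgroup.eq_of_le_of_card_ge hMker (hM ▸ Nat.le_of_dvd (by norm_num) hker3)).symm
  have hrange : ¬ Group.IsSolvable r.range := by
    intro h
    haveI := isCyclic_of_prime_card hM
    haveI : Group.IsSolvable M := Group.isSolvable_of_comm fun a b => mul_comm' a b
    exact hns (Group.isSolvable_of_ker_le_range M.subtype r.rangeRestrict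
      (by rw [MonoidHom.ker_rangeRestrict, hker, Subgroup.range_subtype]))
  have hcases := range_five r hrange
  have hcore : pCore 3 K = r.ker := by
    refine le_antisymm (three_subgroup_five r hcases _ PSolvable.pCore_isPGroup) ?_
    rw [hker]
    exact PSolvable.le_pCore (IsPGroup.of_card (n := 1) (by rw [hM, pow_one]))
  refine ⟨by rw [hcore, hker, hM], ?_⟩
  let E : K ⧸ pCore 3 K ≃* r.range :=
    (QuotientGroup.quotientMulEquivOfEq hcore).trans (QuotientGroup.quotientKerEquivRange r)
  rcases hcases with h | h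
  · exact Or.inl ⟨E.trans (MulEquiv.subgroupCongr h)⟩
  · exact Or.inr ⟨E.trans ((MulEquiv.subgroupCongr h).trans Subgroup.topEquiv)⟩

/-- The non-solvable subgroups of `A₈` without normal 2-subgroup. -/
theorem classify (K : Subgroup AEight) (hns : ¬ Group.IsSolvable K) (hO : pCore 2 K = ⊥) :
    InList K ∨ (Nat.card (pCore 3 K) = 3 ∧ (Nonempty (K ⧸ pCore 3 K ≃* alternatingGroup (Fin 5)) ∨
      Nonempty (K ⧸ pCore 3 K ≃* Perm (Fin 5)))) := by
  classical
  have hKne : K ≠ ⊥ := by
    rintro rfl
    exact hns inferInstance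
  by_cases hsol : ∀ M : Subgroup K, M.Normal → Group.IsSolvable M → M = ⊥
  · exact Or.inl (S2553.main K hKne hsol)
  push Not at hsol
  obtain ⟨M, hMn, hMs, hMne⟩ := hsol
  obtain ⟨M', hn', hne', hle', hmin⟩ := MinimalNormal.exists_minimal_normal_le hMn hMne
  haveI := hn'
  haveI : Group.IsSolvable M' := Group.isSolvable_of_isSolvable_injective (Subgroup.inclusion_injective hle')
  obtain ⟨-, q, hq, hexp⟩ := MinimalNormal.elementaryAbelian M' hne' hmin
  have hpg : IsPGroup q M' := fun a => ⟨1, Subtype.ext (by rw [pow_one]; exact hexp a.1 a.2)⟩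
  haveI := Fact.mk hq
  obtain ⟨i, hi⟩ := IsPGroup.iff_card.1 hpg
  have hd : Nat.card M' ∣ 20160 := M'.card_subgroup_dvd_card.trans (card_dvd_aeight K)
  rw [hi] at hd
  have hi0 : i ≠ 0 := by
    rintro rfl
    exact hne' (Subgroup.eq_bot_of_card_eq _ (by rw [hi, pow_zero]))
  have hq' : q = 2 ∨ q = 3 ∨ q = 5 ∨ q = 7 := by
    have h1 : q ∣ 20160 := (dvd_pow_self q hi0).trans hd
    have h2 : q ∈ Nat.primeFactors 20160 := Nat.mem_primeFactors.2 ⟨hq, h1, by norm_num⟩
    rw [show Nat.primeFactors 20160 = {2, 3, 5, 7} by decide +kernel] at h2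
    simpa using h2
  rcases hq' with rfl | rfl | hq'
  · exact absurd (le_bot_iff.1 (hO ▸ PSolvable.le_pCore hpg)) hne'
  · have hi2 : i ≤ 2 := by
      by_contra h
      have := (pow_dvd_pow 3 (show 3 ≤ i by omega)).trans hd
      norm_num at this
    have hcard : Nat.card M' = 3 ∨ Nat.card M' = 9 := by
      rw [hi]
      interval_cases i <;> simp_all
    have hdiv : 5 ∣ Nat.card K ∨ 7 ∣ Nat.card K := by
      by_contra h
      rw [not_or] at h
      exact hns (solvable_of_dvd (card_dvd_aeight K) h.1 h.2)
    have hcent : ∀ p : ℕ, Fact p.Prime → (p = 5 ∨ p = 7) → ∀ y : K, orderOf y = p →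
        Nat.card M' ∣ (8 - p).factorial * p := by
      intro p hp hp57 y hy
      have hc := centralises_three M' hcard hp57 hy
      refine dvd_trans ?_ (card_centralizer_dvd (P := zpowers (y : AEight)) (by rcases hp57 with rfl | rfl <;> norm_num)
        (by rw [Nat.card_zpowers, Subgroup.orderOf_coe, hy]))
      rw [← card_map_of_injective K.subtype_injective]
      refine card_dvd_of_le ?_
      rintro _ ⟨m, hm, rfl⟩
      rw [mem_centralizer_iff]
      intro z hz
      obtain ⟨j, rfl⟩ := mem_zpowers_iff.1 hz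
      exact (Commute.zpow_left (show Commute (y : AEight) (m : AEight) from congrArg Subtype.val (hc m hm)) j).eq
    rcases hdiv with h5 | h7
    · haveI : Fact (Nat.Prime 5) := ⟨Nat.prime_five⟩
      obtain ⟨y, hy⟩ := exists_prime_orderOf_dvd_card' 5 h5
      have h30 := hcent 5 inferInstance (Or.inl rfl) y hy
      have h3 : Nat.card M' = 3 := hcard.resolve_right fun h9 => by
        rw [h9] at h30
        norm_num [Nat.factorial] at h30
      exact Or.inr (three_case hns M' h3 hy (centralises_three M' hcard (Or.inl rfl) hy))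
    · exfalso
      haveI : Fact (Nat.Prime 7) := ⟨by norm_num⟩
      obtain ⟨y, hy⟩ := exists_prime_orderOf_dvd_card' 7 h7
      have h := hcent 7 inferInstance (Or.inr rfl) y hy
      rcases hcard with h' | h' <;> rw [h'] at h <;> norm_num [Nat.factorial] at h
  · exfalso
    have hi1 : i = 1 := by
      by_contra h
      have := (pow_dvd_pow q (show 2 ≤ i by omega)).trans hd
      rcases hq' with rfl | rfl <;> norm_num at this
    exact not_five_seven hns M' hq' (by rw [hi, hi1, pow_one])

end Cfsg.Agent.Lib.H59.SectFour
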