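import Mathlib
import Cfsg.Prelude.Def_CaseTheorems
import Cfsg.Agent.Lib.PGroup.Frattini
import Cfsg.Agent.Lib.OddStability.Stable
import Cfsg.Agent.Lib.PSolvable.HallHigman

/-!
Coordinates for the action on the Frattini quotient of a 2-core of sectional rank at most four.
-/

set_option autoImplicit false

namespace Cfsg.Agent.Lib.H59.SectFour

open scoped commutatorElement
open Matrix

/-- Four-dimensional space over the field with two elements. -/
abbrev VFour := Fin 4 → ZMod 2

/-- `SL₄(2)`. -/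
abbrev SLFour := Matrix.SpecialLinearGroup (Fin 4) (ZMod 2)

/-- Coordinates on the Frattini quotient and the matrices of the action. -/
theorem exists_coord {X : Type*} [Group X] [Finite X] (hc : Cfsg.IsPConstrained 2 X)
    (hO : Cfsg.oddCore X = ⊥) (h4 : Cfsg.SectionalPRankLE 2 4 ↥(Cfsg.pCore 2 X)) :
    ∃ (ρ : X →* SLFour) (θ : ↥(Cfsg.pCore 2 X) →* Multiplicative VFour),
      ρ.ker = Cfsg.pCore 2 X ∧
      (∀ x q, Multiplicative.toAdd (θ (MulAut.conjNormal x q)) = (ρ x).1 *ᵥ Multiplicative.toAdd (θ q)) ∧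
      (∀ v : VFour, ∃ q, ∀ x, (ρ x).1 *ᵥ (v - Multiplicative.toAdd (θ q)) = v - Multiplicative.toAdd (θ q)) := by
  have : Fact (Nat.Prime 2) := ⟨Nat.prime_two⟩
  set Q := Cfsg.pCore 2 X with hQ
  have hQp : IsPGroup 2 ↥Q := PSolvable.pCore_isPGroup
  have hCQ : Subgroup.centralizer (Q : Set X) ≤ Q :=
    (PSolvable.isPConstrained_iff_of_pPrimeCore_eq_bot hO).1 hc
  letI : CommGroup (↥Q ⧸ frattini ↥Q) :=
    { (inferInstance : Group (↥Q ⧸ frattini ↥Q)) with
      mul_comm := fun u v => by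
        induction u using QuotientGroup.induction_on with
        | _ x =>
        induction v using QuotientGroup.induction_on with
        | _ y =>
          rw [← QuotientGroup.mk_mul, ← QuotientGroup.mk_mul, QuotientGroup.eq]
          refine PFrattini.commutator_le_frattini hQp ?_
          rw [show (x * y)⁻¹ * (y * x) = ⁅y⁻¹, x⁻¹⁆ by simp [commutatorElement_def, mul_assoc]]
          exact Subgroup.commutator_mem_commutator (Subgroup.mem_top _) (Subgroup.mem_top _) }
  have hexp : ∀ v : ↥Q ⧸ frattini ↥Q, v ^ 2 = 1 := by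
    intro v
    induction v using QuotientGroup.induction_on with
    | _ x => exact (QuotientGroup.eq_one_iff _).2 (PFrattini.pow_mem_frattini hQp x)
  have hcard : Nat.card (↥Q ⧸ frattini ↥Q) ≤ 2 ^ 4 := by
    haveI : ((frattini ↥Q).subgroupOf ⊤).Normal := inferInstance
    have h := h4 ⊤ ((frattini ↥Q).subgroupOf ⊤)
    let π : ↥(⊤ : Subgroup ↥Q) →* ↥Q ⧸ frattini ↥Q :=
      (QuotientGroup.mk' _).comp (⊤ : Subgroup ↥Q).subtype
    have hπ : Function.Surjective π := fun v => by
      obtain ⟨x, rfl⟩ := QuotientGroup.mk'_surjective _ v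
      exact ⟨⟨x, Subgroup.mem_top x⟩, rfl⟩
    have hker : π.ker = (frattini ↥Q).subgroupOf ⊤ := by
      ext x; exact QuotientGroup.eq_one_iff _
    let e := (QuotientGroup.quotientMulEquivOfEq hker).symm.trans
      (QuotientGroup.quotientKerEquivOfSurjective π hπ)
    have hA := h ⊤ ⟨⟨fun x y => Subtype.ext (e.injective (by simp [mul_comm]))⟩⟩
      (fun a _ => e.injective (by rw [map_pow, map_one, hexp]))
    rwa [Subgroup.card_top, Nat.card_congr e.toEquiv] at hA
  letI : Module (ZMod 2) (Additive (↥Q ⧸ frattini ↥Q)) := AddCommGroup.zmodModule fun v => hexp v.toMul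
  haveI : Finite (Additive (↥Q ⧸ frattini ↥Q)) := inferInstanceAs (Finite (↥Q ⧸ frattini ↥Q))
  haveI : Module.Finite (ZMod 2) (Additive (↥Q ⧸ frattini ↥Q)) := Module.Finite.of_finite
  have hd : Module.finrank (ZMod 2) (Additive (↥Q ⧸ frattini ↥Q)) ≤ 4 := by
    have h := Module.natCard_eq_pow_finrank (K := ZMod 2) (V := Additive (↥Q ⧸ frattini ↥Q))
    rw [Nat.card_zmod] at h
    have : Nat.card (Additive (↥Q ⧸ frattini ↥Q)) = Nat.card (↥Q ⧸ frattini ↥Q) :=
      Nat.card_congr Additive.toMul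
    exact (Nat.pow_le_pow_iff_right (by norm_num : 1 < 2)).1 (by omega)
  let b := Module.finBasis (ZMod 2) (Additive (↥Q ⧸ frattini ↥Q))
  let ι : Additive (↥Q ⧸ frattini ↥Q) →ₗ[ZMod 2] VFour :=
    b.constr (ZMod 2) fun i => Pi.single (Fin.castLE hd i) 1
  obtain ⟨π, hπ⟩ : ∃ π : VFour →ₗ[ZMod 2] Additive (↥Q ⧸ frattini ↥Q), π.comp ι = LinearMap.id := by
    refine LinearMap.exists_leftInverse_of_injective ι ?_
    rw [LinearMap.ker_eq_bot]
    intro v w h
    apply b.repr.injective
    ext i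
    have hi : ∀ u, ι u (Fin.castLE hd i) = b.repr u i := by
      intro u
      simp [ι, Module.Basis.constr_apply_fintype, Pi.single_apply, (Fin.castLE_injective hd).eq_iff]
    rw [← hi, ← hi, h]
  have hπ' : ∀ u, π (ι u) = u := fun u => LinearMap.congr_fun hπ u
  let lin : MulAut (↥Q ⧸ frattini ↥Q) →
      (Additive (↥Q ⧸ frattini ↥Q) →ₗ[ZMod 2] Additive (↥Q ⧸ frattini ↥Q)) := fun e =>
    (MonoidHom.toAdditive e.toMonoidHom).toZModLinearMap 2
  let ext : MulAut (↥Q ⧸ frattini ↥Q) →* Module.End (ZMod 2) VFour :=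
    { toFun := fun e => ι ∘ₗ lin e ∘ₗ π + (LinearMap.id - ι ∘ₗ π)
      map_one' := by
        refine LinearMap.ext fun x => ?_
        show ι (π x) + (x - ι (π x)) = x
        abel
      map_mul' := fun e e' => by
        refine LinearMap.ext fun x => ?_
        show ι (lin e (lin e' (π x))) + (x - ι (π x)) =
          ι (lin e (π (ι (lin e' (π x)) + (x - ι (π x))))) +
            ((ι (lin e' (π x)) + (x - ι (π x))) - ι (π (ι (lin e' (π x)) + (x - ι (π x)))))
        simp only [map_add, map_sub, hπ', sub_self, map_zero, add_zero]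
        abel }
  let M : MulAut (↥Q ⧸ frattini ↥Q) →* GL (Fin 4) (ZMod 2) :=
    ((LinearMap.toMatrixAlgEquiv' (R := ZMod 2) (n := Fin 4)).toAlgHom.toMonoidHom.comp ext).toHomUnits
  have hdet : ∀ A : GL (Fin 4) (ZMod 2), (A : Matrix (Fin 4) (Fin 4) (ZMod 2)).det = 1 := fun A => by
    have h : IsUnit (A : Matrix (Fin 4) (Fin 4) (ZMod 2)).det :=
      (Matrix.isUnit_iff_isUnit_det _).1 A.isUnit
    revert h
    generalize (A : Matrix (Fin 4) (Fin 4) (ZMod 2)).det = d
    intro h
    fin_cases d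
    · exact absurd h (fun h => h.ne_zero rfl)
    · rfl
  let S : MulAut (↥Q ⧸ frattini ↥Q) →* SLFour :=
    { toFun := fun e => ⟨(M e : Matrix (Fin 4) (Fin 4) (ZMod 2)), hdet _⟩
      map_one' := Subtype.ext (by rw [map_one]; rfl)
      map_mul' := fun e e' => Subtype.ext (by rw [map_mul]; rfl) }
  have happ : ∀ e v, (S e).1 *ᵥ v = ι (lin e (π v)) + (v - ι (π v)) := fun e v => by
    show LinearMap.toMatrix' (ext e) *ᵥ v = _
    rw [LinearMap.toMatrix'_mulVec]
    rfl
  have hmap : ∀ e : MulAut ↥Q, (frattini ↥Q).map e.toMonoidHom = frattini ↥Q := fun e =>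
    Subgroup.characteristic_iff_map_eq.1 inferInstance e
  let φ : X →* MulAut (↥Q ⧸ frattini ↥Q) :=
    MonoidHom.mk' (fun x => QuotientGroup.congr _ _ (MulAut.conjNormal x) (hmap _)) fun x y => by
      refine MulEquiv.ext fun v => ?_
      induction v using QuotientGroup.induction_on with
      | _ q => rw [map_mul]; rfl
  have hker : φ.ker = Q := by
    apply le_antisymm
    · have hk2 : IsPGroup 2 ↥φ.ker := by
        intro ⟨d, hd⟩
        have hd' : ∀ x ∈ Q, d * x * d⁻¹ * x⁻¹ ∈ (frattini ↥Q).map Q.subtype := by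
          intro x hx
          have h1 : φ d (⟨x, hx⟩ : ↥Q) = ((⟨x, hx⟩ : ↥Q) : ↥Q ⧸ frattini ↥Q) := by
            rw [MonoidHom.mem_ker.1 hd]; rfl
          have h2 : (MulAut.conjNormal d ⟨x, hx⟩)⁻¹ * ⟨x, hx⟩ ∈ frattini ↥Q := QuotientGroup.eq.1 h1
          refine ⟨_, Subgroup.Normal.conj_mem inferInstance _ (inv_mem h2) ⟨x, hx⟩, ?_⟩
          simp only [map_mul, map_inv, Subgroup.coe_subtype, MulAut.conjNormal_apply, _root_.mul_inv_rev, inv_inv]
          group
        obtain ⟨k, hk⟩ := OddStability.exists_pow_mem_centralizer_of_frattini hQp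
          (by rw [Subgroup.normalizer_eq_top]; trivial) hd'
        obtain ⟨j, hj⟩ := hQp ⟨_, hCQ hk⟩
        exact ⟨k + j, Subtype.ext (by rw [Subgroup.coe_pow, pow_add, pow_mul]; exact congrArg Subtype.val hj)⟩
      exact le_sSup ⟨inferInstance, hk2⟩
    · intro q hq
      rw [MonoidHom.mem_ker]
      refine MulEquiv.ext fun v => ?_
      induction v using QuotientGroup.induction_on with
      | _ x =>
        have h1 : MulAut.conjNormal q x = (⟨q, hq⟩ : ↥Q) * x * (⟨q, hq⟩ : ↥Q)⁻¹ := Subtype.ext (by simp)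
        show ((MulAut.conjNormal q x : ↥Q) : ↥Q ⧸ frattini ↥Q) = x
        rw [h1, QuotientGroup.mk_mul, QuotientGroup.mk_mul, QuotientGroup.mk_inv,
          mul_comm (QuotientGroup.mk (⟨q, hq⟩ : ↥Q)), mul_inv_cancel_right]
  have hSinj : Function.Injective S := fun e e' h => by
    apply MulEquiv.ext
    intro v
    have h2 := congrArg (fun A : SLFour => π (A.1 *ᵥ ι (Additive.ofMul v))) h
    simp only [happ, map_add, map_sub, hπ', sub_self, add_zero] at h2
    exact congrArg Additive.toMul h2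
  let θ : ↥Q →* Multiplicative VFour :=
    MonoidHom.mk' (fun q => Multiplicative.ofAdd (ι (Additive.ofMul (q : ↥Q ⧸ frattini ↥Q)))) fun p q => by
      rw [QuotientGroup.mk_mul, ofMul_mul, map_add, ofAdd_add]
  refine ⟨S.comp φ, θ, by refine Eq.trans ?_ hker; ext x; exact map_eq_one_iff _ hSinj, fun x q => ?_, fun v => ?_⟩
  · show ι _ = (S (φ x)).1 *ᵥ ι _
    rw [happ, hπ', sub_self, add_zero]
    rfl
  · obtain ⟨q, hq⟩ := QuotientGroup.mk_surjective (Additive.toMul (π v))
    refine ⟨q, fun x => ?_⟩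
    have hqv : Multiplicative.toAdd (θ q) = ι (π v) := by
      show ι (Additive.ofMul (q : ↥Q ⧸ frattini ↥Q)) = _
      rw [hq]; rfl
    rw [hqv]
    show (S (φ x)).1 *ᵥ _ = _
    rw [happ, map_sub, hπ', sub_self, map_zero, map_zero, zero_add, sub_zero]

end Cfsg.Agent.Lib.H59.SectFour
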