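import Mathlib
import Cfsg.Agent.Lib.SectRank.Basic

/-!
A section of order 32 above a normal 2-subgroup with four-dimensional Frattini quotient,
on which three commuting involutions act in a prescribed way.
-/

set_option autoImplicit false

namespace Cfsg.Agent.Lib.H59.SectFour

open Matrix

/-- first involution -/
def slE : Matrix.SpecialLinearGroup (Fin 4) (ZMod 2) :=
  ⟨!![0, 0, 0, 1; 0, 1, 0, 0; 0, 1, 1, 0; 1, 0, 0, 0], by decide +kernel⟩

/-- second involution -/
def slF : Matrix.SpecialLinearGroup (Fin 4) (ZMod 2) :=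
  ⟨!![0, 0, 0, 1; 0, 1, 0, 0; 1, 0, 1, 1; 1, 0, 0, 0], by decide +kernel⟩

/-- third involution -/
def slG : Matrix.SpecialLinearGroup (Fin 4) (ZMod 2) :=
  ⟨!![0, 1, 0, 1; 0, 1, 0, 0; 0, 1, 1, 0; 1, 1, 0, 0], by decide +kernel⟩

/-- the vectors fixed by the first involution -/
def Fix (v : Fin 4 → ZMod 2) : Prop := slE.1 *ᵥ v + v = 0

instance decidableFix (v : Fin 4 → ZMod 2) : Decidable (Fix v) := by unfold Fix; infer_instance

theorem fix_act : ∀ v, Fix v → slE.1 *ᵥ v = v ∧ slF.1 *ᵥ v = v ∧ slG.1 *ᵥ v = v := by decide +kernel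

theorem act_fix : ∀ v : Fin 4 → ZMod 2, Fix (slE.1 *ᵥ v + v) ∧ Fix (slF.1 *ᵥ v + v) ∧ Fix (slG.1 *ᵥ v + v) := by
  decide +kernel

theorem fix_range : ∀ v, Fix v → ∃ u : Fin 4 → ZMod 2, slE.1 *ᵥ u + u = v := by decide +kernel

theorem fix_of_eq : ∀ v : Fin 4 → ZMod 2, slE.1 *ᵥ v = v → Fix v := by decide +kernel

theorem four_squares : slE * slE = 1 ∧ slF * slF = 1 ∧ slG * slG = 1 := by decide +kernel

theorem four_commute : slE * slF = slF * slE ∧ slE * slG = slG * slE ∧ slF * slG = slG * slF := by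
  decide +kernel

theorem add_self_four (v : Fin 4 → ZMod 2) : v + v = 0 :=
  funext fun _ => CharTwo.add_self_eq_zero _

theorem fix_zero : Fix 0 := by decide +kernel

theorem fix_add {u v : Fin 4 → ZMod 2} (hu : Fix u) (hv : Fix v) : Fix (u + v) := by
  unfold Fix at *
  rw [mulVec_add, show slE.1 *ᵥ u + slE.1 *ᵥ v + (u + v) = (slE.1 *ᵥ u + u) + (slE.1 *ᵥ v + v) by abel,
    hu, hv, add_zero]

variable {X : Type*} [Group X] {W : Subgroup X} [W.Normal]
  {ρ : X →* Matrix.SpecialLinearGroup (Fin 4) (ZMod 2)} {θ : W →* Multiplicative (Fin 4 → ZMod 2)}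

theorem th_mul (a b : W) :
    Multiplicative.toAdd (θ (a * b)) = Multiplicative.toAdd (θ a) + Multiplicative.toAdd (θ b) := by
  rw [map_mul]; rfl

theorem th_inv (a : W) : Multiplicative.toAdd (θ a⁻¹) = Multiplicative.toAdd (θ a) := by
  rw [map_inv, toAdd_inv]
  exact funext fun _ => CharTwo.neg_eq _

theorem mem_W_iff (hker : ρ.ker = W) (x : X) : x ∈ W ↔ ρ x = 1 := by
  rw [← hker, MonoidHom.mem_ker]

/-- A lift of an involution commuting with a given one modulo the kernel of `θ`. -/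
theorem exists_adjust (hker : ρ.ker = W)
    (hact : ∀ x q, Multiplicative.toAdd (θ (MulAut.conjNormal x q)) = (ρ x).1 *ᵥ Multiplicative.toAdd (θ q))
    (hsurj : ∀ v, ∃ q, Multiplicative.toAdd (θ q) = v) {T : Matrix.SpecialLinearGroup (Fin 4) (ZMod 2)}
    (hcom : slE * T = T * slE) (hT : ∀ v, Fix v → T.1 *ᵥ v = v) {e t₀ : X} (he : ρ e = slE) (ht : ρ t₀ = T) :
    ∃ (t : X) (m : W), ρ t = T ∧ (m : X) = e * t * e⁻¹ * t⁻¹ ∧ Multiplicative.toAdd (θ m) = 0 := by
  let z : W := ⟨e * e, by rw [mem_W_iff hker, map_mul, he, four_squares.1]⟩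
  let c : W := ⟨t₀ * e * t₀⁻¹ * e⁻¹, by
    rw [mem_W_iff hker, map_mul, map_mul, map_mul, map_inv, map_inv, he, ht, ← hcom, mul_inv_cancel_right,
      mul_inv_cancel]⟩
  have hz : slE.1 *ᵥ Multiplicative.toAdd (θ z) = Multiplicative.toAdd (θ z) := by
    rw [← he, ← hact, show MulAut.conjNormal e z = z from Subtype.ext (by simp [z, MulAut.conjNormal_apply, mul_assoc])]
  have hc : Fix (Multiplicative.toAdd (θ c)) := by
    have h1 : MulAut.conjNormal t₀ z = c * MulAut.conjNormal e c * z :=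
      Subtype.ext (by simp [z, c, MulAut.conjNormal_apply, mul_assoc])
    have h2 := congrArg (fun q => Multiplicative.toAdd (θ q)) h1
    simp only [th_mul, hact, ht, he, hT _ (fix_of_eq _ hz)] at h2
    unfold Fix
    have h3 := congrArg (fun v => v + Multiplicative.toAdd (θ z)) h2
    simp only [add_self_four] at h3
    rw [add_assoc _ (Multiplicative.toAdd (θ z)) (Multiplicative.toAdd (θ z)), add_self_four, add_zero] at h3
    rw [add_comm]; exact h3.symm
  obtain ⟨u, hu⟩ := fix_range _ hc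
  obtain ⟨v, hv⟩ := hsurj u
  refine ⟨(v : X) * t₀, MulAut.conjNormal e v * c⁻¹ * v⁻¹, ?_, ?_, ?_⟩
  · rw [map_mul, (mem_W_iff hker _).1 v.2, one_mul, ht]
  · simp [c, MulAut.conjNormal_apply, mul_assoc]
  · rw [th_mul, th_mul, th_inv, th_inv, hact, he, hv, ← hu]
    rw [show slE.1 *ᵥ u + (slE.1 *ᵥ u + u) + u = (slE.1 *ᵥ u + u) + (slE.1 *ᵥ u + u) by abel, add_self_four]

/-- The subgroup of `W` above the vectors fixed by the first involution. -/
def fixPart (θ : W →* Multiplicative (Fin 4 → ZMod 2)) : Subgroup X :=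
  Subgroup.map W.subtype
    { carrier := {q | Fix (Multiplicative.toAdd (θ q))}
      one_mem' := by
        show Fix (Multiplicative.toAdd (θ 1))
        rw [map_one]; exact fix_zero
      mul_mem' := fun {a b} ha hb => by
        show Fix (Multiplicative.toAdd (θ (a * b)))
        rw [th_mul]; exact fix_add ha hb
      inv_mem' := fun {a} ha => by
        show Fix (Multiplicative.toAdd (θ a⁻¹))
        rw [th_inv]; exact ha }

theorem fixPart_le : fixPart θ ≤ W := Subgroup.map_subtype_le _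

theorem mem_fixPart {x : X} (h : x ∈ W) (hx : Fix (Multiplicative.toAdd (θ ⟨x, h⟩))) : x ∈ fixPart θ :=
  ⟨⟨x, h⟩, hx, rfl⟩

/-- The rank obstruction. -/
theorem not_sectionalPRankLE [Finite X] (hker : ρ.ker = W)
    (hact : ∀ x q, Multiplicative.toAdd (θ (MulAut.conjNormal x q)) = (ρ x).1 *ᵥ Multiplicative.toAdd (θ q))
    (hsurj : ∀ v, ∃ q, Multiplicative.toAdd (θ q) = v)
    (hE : slE ∈ ρ.range) (hF : slF ∈ ρ.range) (hG : slG ∈ ρ.range) : ¬ Cfsg.SectionalPRankLE 2 4 X := by
  intro hr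
  obtain ⟨e, he⟩ := hE
  obtain ⟨f₀, hf₀⟩ := hF
  obtain ⟨g₀, hg₀⟩ := hG
  obtain ⟨f, mf, hf, hmf, hmf0⟩ := exists_adjust hker hact hsurj four_commute.1 (fun v hv => (fix_act v hv).2.1) he hf₀
  obtain ⟨g, mg, hg, hmg, hmg0⟩ := exists_adjust hker hact hsurj four_commute.2.1 (fun v hv => (fix_act v hv).2.2) he hg₀
  let gens : Set X := (W : Set X) ∪ {e, f, g}
  let H : Subgroup X := Subgroup.closure gens
  set N := fixPart θ with hN
  have hWH : W ≤ H := fun x hx => Subgroup.subset_closure (Or.inl hx)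
  -- elements of `H` fix the fixed vectors
  have hfixH : ∀ x ∈ H, ∀ v, Fix v → (ρ x).1 *ᵥ v = v := by
    intro x hx
    induction hx using Subgroup.closure_induction with
    | mem s hs =>
      intro v hv
      rcases hs with hs | rfl | rfl | rfl
      · rw [(mem_W_iff hker _).1 hs]; exact one_mulVec v
      · rw [he]; exact (fix_act v hv).1
      · rw [hf]; exact (fix_act v hv).2.1
      · rw [hg]; exact (fix_act v hv).2.2
    | one => intro v _; rw [map_one]; exact one_mulVec v
    | mul a b _ _ ha hb =>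
      intro v hv
      rw [map_mul, Matrix.SpecialLinearGroup.coe_mul, ← mulVec_mulVec, hb v hv, ha v hv]
    | inv a _ ha =>
      intro v hv
      conv_lhs => rw [← ha v hv]
      rw [mulVec_mulVec, ← Matrix.SpecialLinearGroup.coe_mul, ← map_mul, inv_mul_cancel, map_one]
      exact one_mulVec v
  have hnorm : ∀ x ∈ H, ∀ n ∈ N, x * n * x⁻¹ ∈ N := by
    rintro x hx _ ⟨q, hq, rfl⟩
    refine ⟨MulAut.conjNormal x q, ?_, MulAut.conjNormal_apply x q⟩
    show Fix (Multiplicative.toAdd (θ _))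
    rw [hact, hfixH x hx _ hq]
    exact hq
  -- squares of the generators
  have hsq : ∀ s ∈ gens, s * s ∈ N := by
    have key : ∀ (t : X) (m : W) (T : Matrix.SpecialLinearGroup (Fin 4) (ZMod 2)), ρ t = T → T * T = 1 →
        (m : X) = e * t * e⁻¹ * t⁻¹ → Multiplicative.toAdd (θ m) = 0 → t * t ∈ N := by
      intro t m T ht hT hm hm0
      have hw : t * t ∈ W := by rw [mem_W_iff hker, map_mul, ht, hT]
      refine mem_fixPart (θ := θ) hw (fix_of_eq _ ?_)
      have h1 : MulAut.conjNormal e (⟨t * t, hw⟩ : W) = m * MulAut.conjNormal t m * ⟨t * t, hw⟩ :=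
        Subtype.ext (by simp [MulAut.conjNormal_apply, hm, mul_assoc])
      have h2 := congrArg (fun q => Multiplicative.toAdd (θ q)) h1
      simp only [th_mul, hact, he, hm0, mulVec_zero, zero_add] at h2
      exact h2
    intro s hs'
    rcases hs' with hs | rfl | rfl | rfl
    · refine mem_fixPart (θ := θ) (W.mul_mem hs hs) ?_
      rw [show (⟨s * s, W.mul_mem hs hs⟩ : W) = ⟨s, hs⟩ * ⟨s, hs⟩ from rfl, th_mul, add_self_four]
      exact fix_zero
    · have hw : s * s ∈ W := by rw [mem_W_iff hker, map_mul, he, four_squares.1]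
      refine mem_fixPart (θ := θ) hw (fix_of_eq _ ?_)
      have h1 : MulAut.conjNormal s (⟨s * s, hw⟩ : W) = ⟨s * s, hw⟩ :=
        Subtype.ext (by simp [MulAut.conjNormal_apply, mul_assoc])
      have h2 := hact s ⟨s * s, hw⟩
      rw [h1, he] at h2
      exact h2.symm
    · exact key s mf slF hf four_squares.2.1 hmf hmf0
    · exact key s mg slG hg four_squares.2.2 hmg hmg0
  -- commutators of the generators
  have hsymm : ∀ a b : X, a * b * a⁻¹ * b⁻¹ ∈ N → b * a * b⁻¹ * a⁻¹ ∈ N := by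
    intro a b h
    have := N.inv_mem h
    simpa [mul_assoc] using this
  have hwgen : ∀ w ∈ W, ∀ s ∈ gens, s * w * s⁻¹ * w⁻¹ ∈ N := by
    intro w hw s hs
    have h : MulAut.conjNormal s (⟨w, hw⟩ : W) * (⟨w, hw⟩ : W)⁻¹ ∈
        ({q | Fix (Multiplicative.toAdd (θ q))} : Set W) := by
      show Fix (Multiplicative.toAdd (θ _))
      rw [th_mul, th_inv, hact]
      rcases hs with hs | rfl | rfl | rfl
      · rw [(mem_W_iff hker _).1 hs, Matrix.SpecialLinearGroup.coe_one, one_mulVec, add_self_four]; exact fix_zero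
      · rw [he]; exact (act_fix _).1
      · rw [hf]; exact (act_fix _).2.1
      · rw [hg]; exact (act_fix _).2.2
    exact ⟨_, h, by simp [MulAut.conjNormal_apply]⟩
  have hef : e * f * e⁻¹ * f⁻¹ ∈ N := ⟨mf, by show Fix _; rw [hmf0]; exact fix_zero, hmf⟩
  have heg : e * g * e⁻¹ * g⁻¹ ∈ N := ⟨mg, by show Fix _; rw [hmg0]; exact fix_zero, hmg⟩
  have hfg : f * g * f⁻¹ * g⁻¹ ∈ N := by
    have hw : f * g * f⁻¹ * g⁻¹ ∈ W := by
      rw [mem_W_iff hker, map_mul, map_mul, map_mul, map_inv, map_inv, hf, hg, four_commute.2.2,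
        mul_inv_cancel_right, mul_inv_cancel]
    refine mem_fixPart (θ := θ) hw (fix_of_eq _ ?_)
    have h1 : MulAut.conjNormal e (⟨_, hw⟩ : W) =
        mf * MulAut.conjNormal f mg * ⟨_, hw⟩ * MulAut.conjNormal g mf⁻¹ * mg⁻¹ :=
      Subtype.ext (by simp [MulAut.conjNormal_apply, hmf, hmg, mul_assoc])
    have h2 := congrArg (fun q => Multiplicative.toAdd (θ q)) h1
    simp only [th_mul, th_inv, hact, he, hmf0, hmg0, mulVec_zero, zero_add, add_zero] at h2
    exact h2
  have hgen : ∀ s ∈ gens, ∀ s' ∈ gens, s * s' * s⁻¹ * s'⁻¹ ∈ N := by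
    intro s hs s' hs'
    rcases hs' with hs' | hs'
    · exact hwgen s' hs' s hs
    rcases hs with hs | hs
    · exact hsymm _ _ (hwgen s hs s' (Or.inr hs'))
    rcases hs with rfl | rfl | rfl <;> rcases hs' with rfl | rfl | rfl <;>
      first
        | (rw [mul_inv_cancel_right, mul_inv_cancel]; exact N.one_mem)
        | assumption
        | exact hsymm _ _ (by assumption)
  have hleft : ∀ c : X, (∀ s ∈ gens, s * c * s⁻¹ * c⁻¹ ∈ N) → ∀ a ∈ H, a * c * a⁻¹ * c⁻¹ ∈ N := by
    intro c hc a ha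
    induction ha using Subgroup.closure_induction with
    | mem s hs => exact hc s hs
    | one => simp
    | mul a b ha' _ ha hb =>
      have := N.mul_mem (hnorm a ha' _ hb) ha
      simpa [mul_assoc] using this
    | inv a ha' ha =>
      have := hnorm a⁻¹ (H.inv_mem ha') _ (N.inv_mem ha)
      simpa [mul_assoc] using this
  have hcomm : ∀ a ∈ H, ∀ b ∈ H, a * b * a⁻¹ * b⁻¹ ∈ N := fun a ha b hb =>
    hleft b (fun s hs => hsymm _ _ (hleft s (fun s' hs' => hgen s' hs' s hs) b hb)) a ha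
  have hpow : ∀ a ∈ H, a ^ 2 ∈ N := by
    intro a ha
    induction ha using Subgroup.closure_induction with
    | mem s hs => rw [pow_two]; exact hsq s hs
    | one => simp
    | mul a b ha' hb' ha hb =>
      have := N.mul_mem (N.mul_mem (hnorm a ha' _ (hcomm b hb' a ha')) ha) hb
      simp only [pow_two, mul_assoc, inv_mul_cancel_left] at this ⊢
      simpa using this
    | inv a _ ha => rw [inv_pow]; exact N.inv_mem ha
  have hsec : SectRank.IsElemSection 2 N H := ⟨fixPart_le.trans hWH, hcomm, hpow⟩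
  have hle := hsec.relIndex_le hr
  -- `W` has index 4 over the fixed part
  have h4 : 4 ≤ N.relIndex W := by
    let δ : W →* Multiplicative (Fin 4 → ZMod 2) := MonoidHom.mk'
      (fun q => Multiplicative.ofAdd (slE.1 *ᵥ Multiplicative.toAdd (θ q) + Multiplicative.toAdd (θ q)))
      (fun a b => by rw [th_mul, mulVec_add, ← ofAdd_add]; congr 1; abel)
    have hδ : δ.ker = N.subgroupOf W := by
      ext q
      rw [MonoidHom.mem_ker, Subgroup.mem_subgroupOf]
      constructor
      · intro h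
        exact mem_fixPart q.2 h
      · rintro ⟨q', hq', hqq⟩
        rw [← Subtype.ext hqq]
        exact hq'
    show 4 ≤ (N.subgroupOf W).index
    rw [← hδ, Subgroup.index_ker]
    let us : Fin 4 → Fin 4 → ZMod 2 := ![![0, 0, 0, 0], ![1, 0, 0, 0], ![0, 1, 0, 0], ![1, 1, 0, 0]]
    have hinj : Function.Injective fun i => slE.1 *ᵥ us i + us i := by
      show Function.Injective fun i => slE.1 *ᵥ (![![0, 0, 0, 0], ![1, 0, 0, 0], ![0, 1, 0, 0], ![1, 1, 0, 0]] i) + _
      decide +kernel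
    choose qs hqs using fun i => hsurj (us i)
    refine le_trans (by rw [Nat.card_fin]) (Nat.card_le_card_of_injective (fun i => δ.rangeRestrict (qs i)) ?_)
    intro i j h
    apply hinj
    have h' : Multiplicative.toAdd (δ (qs i)) = Multiplicative.toAdd (δ (qs j)) :=
      congrArg Multiplicative.toAdd (congrArg Subtype.val h)
    show slE.1 *ᵥ us i + us i = slE.1 *ᵥ us j + us j
    rw [← hqs i, ← hqs j]
    exact h'
  -- `H` has index 8 over `W`
  have h8 : 8 ≤ W.relIndex H := by
    rw [← hker, Subgroup.relIndex_ker]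
    have hmem : ∀ s ∈ gens, ρ s ∈ H.map ρ := fun s hs => Subgroup.mem_map_of_mem ρ (Subgroup.subset_closure hs)
    have hE' : slE ∈ H.map ρ := he ▸ hmem e (Or.inr (Or.inl rfl))
    have hF' : slF ∈ H.map ρ := hf ▸ hmem f (Or.inr (Or.inr (Or.inl rfl)))
    have hG' : slG ∈ H.map ρ := hg ▸ hmem g (Or.inr (Or.inr (Or.inr rfl)))
    let elts : Fin 8 → Matrix.SpecialLinearGroup (Fin 4) (ZMod 2) :=
      ![1, slE, slF, slG, slE * slF, slE * slG, slF * slG, slE * slF * slG]
    have helts : ∀ i, elts i ∈ H.map ρ := by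
      intro i
      fin_cases i
      exacts [one_mem _, hE', hF', hG', mul_mem hE' hF', mul_mem hE' hG', mul_mem hF' hG',
        mul_mem (mul_mem hE' hF') hG']
    have hinj : Function.Injective elts := by decide +kernel
    refine le_trans (by rw [Nat.card_fin]) (Nat.card_le_card_of_injective (fun i => (⟨elts i, helts i⟩ : H.map ρ)) ?_)
    exact fun i j h => hinj (congrArg Subtype.val h)
  rw [← Subgroup.relIndex_mul_relIndex N W H fixPart_le hWH] at hle
  have := Nat.mul_le_mul h4 h8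
  omega

end Cfsg.Agent.Lib.H59.SectFour
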