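import Mathlib
import Cfsg.Agent.Lib.ASevenGL.Subgroups
import Cfsg.Agent.Lib.H59.SectFour.Rank

/-!
Subgroups of `A₈` isomorphic to `S₆`, `S₇` or `A₈`, and the matrices they contain.
-/

set_option autoImplicit false

namespace Cfsg.Agent.Lib.H59.SectFour

open Equiv Subgroup Cfsg.Agent.Lib.ASevenGL Cfsg.Agent.Lib.SmallGroups
open Matrix hiding one_apply

/-- fourth matrix -/
def slH : Matrix.SpecialLinearGroup (Fin 4) (ZMod 2) :=
  ⟨!![0, 0, 0, 1; 0, 1, 0, 1; 0, 1, 1, 1; 1, 0, 1, 1], by decide +kernel⟩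

theorem toPerm_eq_of (g : Matrix.SpecialLinearGroup (Fin 4) (ZMod 2)) (π : Perm (Fin 8))
    (h : ∀ k l, S0256.extSq g.1 *ᵥ S0256.pairVec k l = S0256.pairVec (π k) (π l)) : S0256.toPerm g = π := by
  have h' : (g, π) ∈ S0256.compat := h
  have h2 := Subgroup.mul_mem _ (Subgroup.inv_mem _ (S0256.toPerm_mem g)) h'
  rw [Prod.inv_mk, Prod.mk_mul_mk, inv_mul_cancel] at h2
  exact inv_mul_eq_one.1 (S0256.compat_unique h2)

/-- permutation of `slE` -/
def permE : Perm (Fin 8) := ⟨![0, 5, 4, 3, 2, 1, 6, 7], ![0, 5, 4, 3, 2, 1, 6, 7], by decide, by decide⟩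

/-- permutation of `slF` -/
def permF : Perm (Fin 8) := ⟨![3, 2, 1, 0, 5, 4, 7, 6], ![3, 2, 1, 0, 5, 4, 7, 6], by decide, by decide⟩

/-- permutation of `slG` -/
def permG : Perm (Fin 8) := ⟨![3, 1, 2, 0, 4, 5, 7, 6], ![3, 1, 2, 0, 4, 5, 7, 6], by decide, by decide⟩

/-- permutation of `slH` -/
def permH : Perm (Fin 8) := ⟨![0, 5, 3, 4, 1, 2, 6, 7], ![0, 4, 5, 2, 3, 1, 6, 7], by decide, by decide⟩

theorem toPerm_slE : S0256.toPerm slE = permE := toPerm_eq_of _ _ (by unfold S0256.pairVec; decide +kernel)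

theorem toPerm_slF : S0256.toPerm slF = permF := toPerm_eq_of _ _ (by unfold S0256.pairVec; decide +kernel)

theorem toPerm_slG : S0256.toPerm slG = permG := toPerm_eq_of _ _ (by unfold S0256.pairVec; decide +kernel)

theorem toPerm_slH : S0256.toPerm slH = permH := toPerm_eq_of _ _ (by unfold S0256.pairVec; decide +kernel)

theorem perm_stab : ∀ a : Fin 8, (permE a < 6 ↔ a < 6) ∧ (permF a < 6 ↔ a < 6) ∧ (permG a < 6 ↔ a < 6) ∧
    (permH a < 6 ↔ a < 6) := by decide +kernel

theorem no_common_fixed : ∀ v : Fin 4 → ZMod 2, slE.1 *ᵥ v = v → slH.1 *ᵥ v = v → v = 0 := by decide +kernel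

/-- The stabiliser of a pair of letters. -/
def pairStab : Subgroup AEight where
  carrier := {t | ∀ a : Fin 8, (t : Perm (Fin 8)) a < 6 ↔ a < 6}
  one_mem' := fun _ => Iff.rfl
  mul_mem' := fun {s t} hs ht a => (hs ((t : Perm (Fin 8)) a)).trans (ht a)
  inv_mem' := fun {t} ht a => by
    have := ht ((t⁻¹ : AEight).1 a)
    rw [Subgroup.coe_inv, Perm.coe_inv, Equiv.apply_symm_apply] at this
    rw [Subgroup.coe_inv, Perm.coe_inv]
    exact this.symm

theorem card_pairStab_le : Nat.card pairStab ≤ 720 := by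
  classical
  let r := restrictHom pairStab (fun a => a < 6) (fun _ hg => hg)
  have hr : Function.Injective r := by
    rw [injective_iff_map_eq_one]
    intro g hg
    refine Subtype.ext (Subtype.ext ?_)
    by_contra hne
    set π : Perm (Fin 8) := (g.1 : Perm (Fin 8))
    have hfix : ∀ a, a < 6 → π a = a := fun a ha => congrArg Subtype.val (Perm.ext_iff.1 hg ⟨a, ha⟩)
    have hsub : π.support ⊆ ({6, 7} : Finset (Fin 8)) := by
      intro a ha
      rw [Perm.mem_support] at ha
      have : ¬ a < 6 := fun h => ha (hfix a h)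
      fin_cases a <;> simp_all
    have hle := Finset.card_le_card hsub
    have h2 : π.support.card = 2 := by
      have hne1 : π.support.card ≠ 1 := Perm.card_support_ne_one π
      have hne0 : π.support.card ≠ 0 := fun h => hne (Perm.card_support_eq_zero.1 h)
      simp at hle
      omega
    have hsign := (Perm.card_support_eq_two.1 h2).sign_eq
    rw [Perm.mem_alternatingGroup.1 g.1.2] at hsign
    exact absurd hsign (by decide)
  have hd := Subgroup.card_dvd_of_injective r hr
  rw [Nat.card_perm] at hd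
  have hc : Nat.card {a : Fin 8 // a < 6} = 6 := by
    rw [Nat.card_eq_fintype_card]; decide
  rw [hc] at hd
  exact (Nat.le_of_dvd (Nat.factorial_pos _) hd).trans (by norm_num [Nat.factorial])

/-- Up to conjugation the group contains the stabiliser of a pair of letters. -/
theorem exists_frame (K : Subgroup AEight)
    (h : Nonempty (K ≃* Perm (Fin 6)) ∨ Nonempty (K ≃* Perm (Fin 7)) ∨ Nonempty (K ≃* alternatingGroup (Fin 8))) :
    ∃ σ : AEight, ∀ t ∈ pairStab, σ⁻¹ * t * σ ∈ K := by
  classical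
  haveI : IsSimpleGroup AEight := alternatingGroup.isSimpleGroup (by simp)
  have hA : ¬ IsMulCommutative AEight := not_isMulCommutative_of_not_prime (by rw [card_aeight]; norm_num)
  rcases h with ⟨⟨e⟩⟩ | ⟨⟨e⟩⟩ | ⟨⟨e⟩⟩
  swap
  · exfalso
    have hK : Nat.card K = 5040 := by
      rw [Nat.card_congr e.toEquiv, Nat.card_perm, Nat.card_fin]; norm_num [Nat.factorial]
    have hi := K.card_mul_index
    rw [hK, card_aeight] at hi
    have hi4 : K.index = 4 := by omega
    have hK' : K = ⊤ := eq_top_of_not_dvd_factorial hA fun hd => by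
      rw [hi4, card_aeight] at hd
      norm_num [Nat.factorial] at hd
    rw [hK', Subgroup.index_top] at hi4
    omega
  rotate_left
  · have hK : K = ⊤ := Subgroup.eq_top_of_card_eq K (Nat.card_congr e.toEquiv)
    exact ⟨1, fun t _ => hK ▸ mem_top _⟩
  · haveI : IsSimpleGroup (alternatingGroup (Fin 6)) := alternatingGroup.isSimpleGroup (by simp)
    let M : Subgroup K := (alternatingGroup (Fin 6)).map e.symm.toMonoidHom
    haveI : M.Normal := Subgroup.Normal.map inferInstance _ e.symm.surjective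
    let N : Subgroup AEight := M.map K.subtype
    let eN : alternatingGroup (Fin 6) ≃* N :=
      (Subgroup.equivMapOfInjective _ e.symm.toMonoidHom e.symm.injective).trans
        (Subgroup.equivMapOfInjective M K.subtype K.subtype_injective)
    haveI : IsSimpleGroup N := eN.symm.isSimpleGroup
    have hN : Nat.card N = 360 := by
      rw [← Nat.card_congr eN.toEquiv, nat_card_alternatingGroup, Nat.card_fin]; norm_num [Nat.factorial]
    have hG : ¬ IsMulCommutative N := not_isMulCommutative_of_not_prime (by rw [hN]; norm_num)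
    obtain h60 | ⟨-, x, hx, hfix⟩ := five_facts hG (by rw [hN]; norm_num) (by rw [hN]; norm_num)
    · omega
    let O : Set (Fin 8) := MulAction.orbit N x
    have hO : ∀ g ∈ K, ∀ y ∈ O, (g : Perm (Fin 8)) y ∈ O := by
      intro g hg y hy
      have hnorm : ∀ n ∈ N, g⁻¹ * n * g ∈ N := by
        rintro _ ⟨m, hm, rfl⟩
        refine ⟨(⟨g, hg⟩ : K)⁻¹ * m * ⟨g, hg⟩, ?_, rfl⟩
        simpa using Subgroup.Normal.conj_mem (inferInstance : M.Normal) m hm (⟨g, hg⟩ : K)⁻¹
      by_contra hgy
      have hfy : ∀ n : N, n • y = y := by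
        intro n
        have hn : g * n.1 * g⁻¹ ∈ N := by
          obtain ⟨m, hm, hme⟩ := n.2
          exact ⟨(⟨g, hg⟩ : K) * m * (⟨g, hg⟩ : K)⁻¹, Subgroup.Normal.conj_mem (inferInstance : M.Normal) m hm _, by
            rw [← hme]; rfl⟩
        have h := hfix _ hgy ⟨_, hn⟩
        change ((g * n.1 * g⁻¹ : AEight) : Perm (Fin 8)) ((g : Perm (Fin 8)) y) = (g : Perm (Fin 8)) y at h
        simp only [Subgroup.coe_mul, Subgroup.coe_inv, Perm.mul_apply, Perm.coe_inv, Equiv.symm_apply_apply,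
          EmbeddingLike.apply_eq_iff_eq] at h
        exact h
      have horb : MulAction.orbit N y = {y} := Set.eq_singleton_iff_unique_mem.2
        ⟨MulAction.mem_orbit_self y, by rintro _ ⟨n, rfl⟩; exact hfy n⟩
      rw [← MulAction.orbit_eq_iff.2 hy, horb, Nat.card_coe_set_eq, Set.ncard_singleton] at hx
      omega
    have hc : Fintype.card {a : Fin 8 // a ∈ O} = Fintype.card {a : Fin 8 // a < 6} := by
      rw [← Nat.card_eq_fintype_card]
      exact hx.trans (by decide)
    let eo : {a : Fin 8 // a ∈ O} ≃ {a : Fin 8 // a < 6} := Fintype.equivOfCardEq hc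
    let σ₀ : Perm (Fin 8) := eo.extendSubtype
    have hσ₀ : ∀ a, σ₀ a < 6 ↔ a ∈ O := fun a =>
      ⟨fun h => by_contra fun ha => eo.extendSubtype_not_mem a ha h, fun h => eo.extendSubtype_mem a h⟩
    obtain ⟨σ, hσ⟩ : ∃ σ : AEight, ∀ a, (σ : Perm (Fin 8)) a < 6 ↔ a ∈ O := by
      rcases Int.units_eq_one_or (Perm.sign σ₀) with h | h
      · exact ⟨⟨σ₀, Perm.mem_alternatingGroup.2 h⟩, hσ₀⟩
      · refine ⟨⟨Equiv.swap 0 1 * σ₀, Perm.mem_alternatingGroup.2 ?_⟩, fun a => ?_⟩
        · rw [map_mul, h, Perm.sign_swap (by decide)]; decide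
        · have h01 : ∀ b : Fin 8, Equiv.swap (0 : Fin 8) 1 b < 6 ↔ b < 6 := by decide +kernel
          exact (h01 _).trans (hσ₀ a)
    have hle : K.map (MulAut.conj σ).toMonoidHom ≤ pairStab := by
      rintro _ ⟨g, hg, rfl⟩ a
      show ((σ * g * σ⁻¹ : AEight) : Perm (Fin 8)) a < 6 ↔ a < 6
      rw [Subgroup.coe_mul, Subgroup.coe_mul, Subgroup.coe_inv, Perm.mul_apply, Perm.mul_apply, hσ, Perm.coe_inv]
      have h2 : a < 6 ↔ (σ : Perm (Fin 8)).symm a ∈ O := by rw [← hσ, Equiv.apply_symm_apply]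
      rw [h2]
      refine ⟨fun h => ?_, hO g hg _⟩
      have := hO g⁻¹ (K.inv_mem hg) _ h
      simpa using this
    have heq : K.map (MulAut.conj σ).toMonoidHom = pairStab := Subgroup.eq_of_le_of_card_ge hle (by
      rw [card_map_of_injective (MulAut.conj σ).injective, Nat.card_congr e.toEquiv, Nat.card_perm, Nat.card_fin]
      exact card_pairStab_le.trans (by norm_num [Nat.factorial]))
    refine ⟨σ, fun t ht => ?_⟩
    rw [← heq] at ht
    obtain ⟨g, hg, rfl⟩ := ht
    simpa [mul_assoc] using hg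

end Cfsg.Agent.Lib.H59.SectFour
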